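import Mathlib.FieldTheory.KrullTopology
import Mathlib.FieldTheory.Galois.Infinite
import Mathlib.FieldTheory.IsSepClosed
import Mathlib.Topology.LocallyConstant.Basic

/-!
# Locally constant cocycles of an absolute Galois group come from a finite level
-/

set_option autoImplicit false

universe u

open scoped Topology

namespace Groth.Agent.GrpCohLib

variable {K L : Type u} [Field K] [Field L] [Algebra K L] [IsGalois K L] {M : Type u} [Monoid M]
  [MulAction (L ≃ₐ[K] L) M]

/-- The data of a finite level for a locally constant cocycle `a`. -/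
theorem exists_level (a : (L ≃ₐ[K] L) → M) (ha : ∀ σ τ, a (σ * τ) = a σ * σ • a τ)
    (h1 : a 1 = 1) (hlc : IsLocallyConstant a) (hone : ∀ σ : L ≃ₐ[K] L, σ • (1 : M) = 1) :
    ∃ (E : IntermediateField K L) (_ : FiniteDimensional K E) (_ : Normal K E),
      (∀ σ τ : L ≃ₐ[K] L, AlgEquiv.restrictNormalHom E σ = AlgEquiv.restrictNormalHom E τ → a σ = a τ) ∧
      ∀ σ, ∀ h ∈ E.fixingSubgroup, h • a σ = a σ := by
  have hnhds : {σ : L ≃ₐ[K] L | a σ = 1} ∈ 𝓝 (1 : L ≃ₐ[K] L) :=
    (hlc.isOpen_fiber 1).mem_nhds h1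
  obtain ⟨E, hfin, hnor, hE⟩ := (krullTopology_mem_nhds_one_iff_of_normal K L _).mp hnhds
  have hker : ∀ σ : L ≃ₐ[K] L, AlgEquiv.restrictNormalHom E σ = 1 ↔ σ ∈ E.fixingSubgroup := fun σ => by
    rw [IntermediateField.mem_fixingSubgroup_iff]
    exact AlgEquiv.restrictNormal_eq_one_iff E σ
  have hright : ∀ σ, ∀ h ∈ E.fixingSubgroup, a (σ * h) = a σ := fun σ h hh => by
    rw [ha, show a h = 1 from hE hh, hone, mul_one]
  refine ⟨E, hfin, hnor, fun σ τ hστ => ?_, fun σ h hh => ?_⟩
  · have : σ⁻¹ * τ ∈ E.fixingSubgroup := (hker _).mp (by rw [map_mul, map_inv, hστ, inv_mul_cancel])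
    conv_rhs => rw [show τ = σ * (σ⁻¹ * τ) by rw [mul_inv_cancel_left]]
    exact (hright _ _ this).symm
  · have hc : σ⁻¹ * h * σ ∈ E.fixingSubgroup := (hker _).mp (by
      rw [map_mul, map_mul, map_inv, (hker h).mpr hh, mul_one, inv_mul_cancel])
    have h2 := ha h σ
    rw [show a h = 1 from hE hh, one_mul] at h2
    rw [← h2, show h * σ = σ * (σ⁻¹ * h * σ) by group, hright _ _ hc]

theorem mem_of_fixed {E : IntermediateField K L} {x : L} (h : ∀ σ ∈ E.fixingSubgroup, σ x = x) : x ∈ E := by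
  rw [← InfiniteGalois.fixedField_fixingSubgroup E, IntermediateField.mem_fixedField_iff]
  exact h

end Groth.Agent.GrpCohLib
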